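import Groth.Agent.L13.Wild.CompleteTools
import Groth.Agent.L01.CohenFinite
import Mathlib.RingTheory.HopkinsLevitzki

/-!
Finite parametrisations of complete local rings with finite residue extension.
-/

set_option autoImplicit false
set_option linter.style.haveILetI false
set_option maxSynthPendingDepth 3

universe u

open IsLocalRing

noncomputable section

namespace Groth.L06.GenUnram

variable {k A : Type u} [Field k] [CommRing A] [IsLocalRing A] [IsNoetherianRing A] [Algebra k A]
  [Module.Finite k (ResidueField A)]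

omit [IsNoetherianRing A] in
theorem exists_fg_approx {m : ℕ} (u : Fin m → A) (hu : Ideal.span (Set.range u) = maximalIdeal A) :
    ∀ N : ℕ, ∃ W : Submodule k A, W.FG ∧ ∀ a : A, ∃ s ∈ W, a - s ∈ maximalIdeal A ^ N
  | 0 => ⟨⊥, Submodule.fg_bot, fun a => ⟨0, zero_mem _, by simp⟩⟩
  | N + 1 => by
    classical
    obtain ⟨W, hW, hWa⟩ := exists_fg_approx u hu N
    obtain ⟨d, b, hb⟩ := Module.Finite.exists_fin (R := k) (M := ResidueField A)
    choose l hl using fun j => IsLocalRing.residue_surjective (b j)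
    refine ⟨Submodule.span k (Set.range l) ⊔ ⨆ i, W.map (LinearMap.mulLeft k (u i)),
      (Submodule.fg_span (Set.finite_range l)).sup (Submodule.fg_iSup _ fun i => hW.map _), fun a => ?_⟩
    obtain ⟨c, hc⟩ := (Submodule.mem_span_range_iff_exists_fun k).1 (hb.ge (Submodule.mem_top (x := residue A a)))
    have hac : a - ∑ j, c j • l j ∈ maximalIdeal A := by
      rw [← IsLocalRing.residue_eq_zero_iff, map_sub, map_sum, sub_eq_zero, ← hc]
      refine Finset.sum_congr rfl fun j _ => ?_
      rw [Algebra.smul_def, Algebra.smul_def, map_mul, hl]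
      rfl
    rw [← hu, Ideal.span, Submodule.mem_span_range_iff_exists_fun] at hac
    obtain ⟨e, he⟩ := hac
    choose s hs hes using fun i => hWa (e i)
    refine ⟨(∑ j, c j • l j) + ∑ i, u i * s i, add_mem
      (Submodule.mem_sup_left (sum_mem fun j _ => Submodule.smul_mem _ _ (Submodule.subset_span ⟨j, rfl⟩)))
      (Submodule.mem_sup_right (sum_mem fun i _ => Submodule.mem_iSup_of_mem i ⟨s i, hs i, rfl⟩)), ?_⟩
    rw [← sub_sub, ← he, ← Finset.sum_sub_distrib]
    refine sum_mem fun i _ => ?_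
    rw [smul_eq_mul, mul_comm (u i), ← sub_mul, pow_succ]
    exact Ideal.mul_mem_mul (hes i) (hu ▸ Ideal.subset_span (Set.mem_range_self i))

theorem finite_powerSeries {n : ℕ} (x : Fin n → A) (hx : (Ideal.span (Set.range x)).radical = maximalIdeal A)
    (φ : MvPowerSeries (Fin n) k →ₐ[k] A) (hφ : ∀ i, φ (MvPowerSeries.X i) = x i) : φ.toRingHom.Finite := by
  letI := φ.toRingHom.toAlgebra
  obtain ⟨N, hN⟩ := Ideal.exists_pow_le_of_le_radical_of_fg hx.ge (IsNoetherian.noetherian _)
  obtain ⟨m, u, hu⟩ := Submodule.fg_iff_exists_fin_generating_family.1 (IsNoetherian.noetherian (maximalIdeal A))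
  obtain ⟨W, hWfg, hWa⟩ := exists_fg_approx (k := k) u hu N
  obtain ⟨d, w, hw⟩ := Submodule.fg_iff_exists_fin_generating_family.1 hWfg
  have hmap : (Groth.L01.PowSerReg.varIdeal k n).map (algebraMap (MvPowerSeries (Fin n) k) A) = Ideal.span (Set.range x) :=
    Groth.L13.Wild.map_varIdeal_eq φ x hφ
  have hJ : Ideal.span (Set.range x) ≠ ⊤ := fun h => (maximalIdeal.isMaximal A).ne_top (by rw [← hx, h, Ideal.radical_top])
  have hh : IsHausdorff (Groth.L01.PowSerReg.varIdeal k n) A := by
    have : IsHausdorff ((Groth.L01.PowSerReg.varIdeal k n).map (algebraMap (MvPowerSeries (Fin n) k) A)) A :=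
      IsHausdorff.of_le_jacobson _ _ (by
        rw [hmap, IsLocalRing.jacobson_eq_maximalIdeal ⊥ bot_ne_top]; exact le_maximalIdeal hJ)
    exact IsHausdorff.map_algebraMap_iff.1 this
  have hc : IsAdicComplete (Groth.L01.PowSerReg.varIdeal k n) (MvPowerSeries (Fin n) k) := by
    rw [Groth.L01.PowSerReg.varIdeal]; infer_instance
  have := Groth.L13.Wild.isAdicComplete_of_basis (Pi.basisFun (MvPowerSeries (Fin n) k) (Fin d)) (Groth.L01.PowSerReg.varIdeal k n)
  refine Module.Finite.of_surjective (Fintype.linearCombination (MvPowerSeries (Fin n) k) w)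
    (surjective_of_mkQ_comp_surjective (I := Groth.L01.PowSerReg.varIdeal k n) fun y => ?_)
  obtain ⟨a, rfl⟩ := Submodule.mkQ_surjective _ y
  obtain ⟨s, hs, has⟩ := hWa a
  rw [← hw, Submodule.mem_span_range_iff_exists_fun] at hs
  obtain ⟨c, hcs⟩ := hs
  refine ⟨fun i => MvPowerSeries.C (c i), ?_⟩
  rw [LinearMap.comp_apply, Submodule.mkQ_apply, Submodule.mkQ_apply, Submodule.Quotient.eq, ← neg_mem_iff, neg_sub,
    Ideal.smul_top_eq_map, Submodule.restrictScalars_mem, hmap]
  have e : Fintype.linearCombination (MvPowerSeries (Fin n) k) w (fun i => MvPowerSeries.C (c i)) = s := by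
    rw [Fintype.linearCombination_apply, ← hcs]
    refine Finset.sum_congr rfl fun i _ => ?_
    rw [Algebra.smul_def, Algebra.smul_def]
    congr 1
    exact φ.commutes (c i)
  rw [e]
  exact hN has

theorem exists_parametrisation [IsAdicComplete (maximalIdeal A) A] {n : ℕ} (hn : ringKrullDim A = n)
    (x : Fin n → A) (hx : (Ideal.span (Set.range x)).radical = maximalIdeal A) :
    ∃ φ : MvPowerSeries (Fin n) k →ₐ[k] A, (∀ i, φ (MvPowerSeries.X i) = x i) ∧ φ.toRingHom.Finite ∧
      Function.Injective φ := by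
  obtain ⟨φ, hφ⟩ := Groth.L12.exists_evalPS (R := k) (maximalIdeal A) x fun i =>
    hx.le (Ideal.le_radical (Ideal.subset_span ⟨i, rfl⟩))
  have hfin := finite_powerSeries x hx φ hφ
  exact ⟨φ, hφ, hfin, Groth.L13.Wild.injective_powerSeries φ hfin hn⟩

omit [Algebra k A] [Module.Finite k (ResidueField A)] in
theorem exists_sop {n : ℕ} (hn : ringKrullDim A = n) :
    ∃ x : Fin n → A, (Ideal.span (Set.range x)).radical = maximalIdeal A := by
  obtain ⟨n', x, N, hx, hN, hdim⟩ := Groth.L01.CohenFinite.exists_sop (⊥ : Ideal A) bot_le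
  rw [ringKrullDim_eq_of_ringEquiv (RingEquiv.quotientBot A), hn] at hdim
  obtain rfl : n' = n := by exact_mod_cast hdim
  rw [sup_bot_eq] at hN
  refine ⟨x, le_antisymm ?_ fun a ha => ⟨N, hN (Ideal.pow_mem_pow ha N)⟩⟩
  exact (Ideal.IsPrime.radical_le_iff inferInstance).2 (Ideal.span_le.2 (by rintro _ ⟨i, rfl⟩; exact hx i))

end Groth.L06.GenUnram
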