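import Mathlib.RingTheory.MvPowerSeries.Expand
import Mathlib.FieldTheory.Finite.Basic
import Mathlib.LinearAlgebra.FreeModule.Finite.Basic
import Mathlib.Algebra.CharP.Lemmas

/-!
Power series over an F-finite field are spanned over their `q`-th powers by constant multiples of small monomials.
-/

set_option autoImplicit false
set_option linter.style.haveILetI false
set_option maxSynthPendingDepth 3

universe u

open MvPowerSeries

noncomputable section

namespace Groth.L06.GenUnram

variable {k : Type u} [Field k] (p : ℕ) [ExpChar k p] {n : ℕ}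

/-- `c • X^a * g^q` with all exponents of `a` below `q`. -/
def Pieces (k : Type u) [Field k] (n q : ℕ) : Set (MvPowerSeries (Fin n) k) :=
  {f | ∃ (c : k) (a : Fin n → Fin q) (g : MvPowerSeries (Fin n) k),
    f = C c * (∏ i, (X i) ^ (a i : ℕ)) * g ^ q}

theorem prod_X_pow (a : Fin n → ℕ) : (∏ i, (X i : MvPowerSeries (Fin n) k) ^ a i) =
    monomial (Finsupp.equivFunOnFinite.symm a) 1 := by
  classical
  induction n with
  | zero =>
    rw [Finset.univ_eq_empty, Finset.prod_empty]
    rw [show Finsupp.equivFunOnFinite.symm a = 0 from Finsupp.ext fun i => i.elim0]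
    simp
  | succ m =>
    have key : ∀ s : Finset (Fin (m + 1)), (∏ i ∈ s, (X i : MvPowerSeries (Fin (m + 1)) k) ^ a i) =
        monomial (∑ i ∈ s, Finsupp.single i (a i)) 1 := by
      intro s
      induction s using Finset.induction with
      | empty => simp
      | insert i s hi ih =>
        rw [Finset.prod_insert hi, Finset.sum_insert hi, ih, X_pow_eq, monomial_mul_monomial, one_mul]
    rw [key]
    congr 1
    congr 1
    refine Finsupp.ext fun j => ?_
    simp [Finsupp.finsetSum_apply, Finsupp.single_apply]

theorem mem_closure_base (hk : (frobenius k p).Finite) (f : MvPowerSeries (Fin n) k) :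
    f ∈ AddSubmonoid.closure (Pieces k n p) := by
  classical
  rcases ‹ExpChar k p› with _ | ⟨hp⟩
  · refine AddSubmonoid.subset_closure ⟨1, fun _ => 0, f, ?_⟩
    simp
  haveI : ExpChar k p := ExpChar.prime hp
  obtain ⟨d, b, hb⟩ : ∃ (d : ℕ) (b : Fin d → k), ∀ c : k, ∃ r : Fin d → k, c = ∑ j, r j ^ p * b j := by
    let L := (frobenius k p).fieldRange
    haveI : Module.Finite L k := by
      rw [← RingHom.finite_algebraMap]
      exact RingHom.Finite.of_comp_finite (f := (frobenius k p).rangeRestrictField)
        (g := algebraMap L k) hk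
    obtain ⟨d, b, hb⟩ := Module.Finite.exists_fin (R := L) (M := k)
    refine ⟨d, b, fun c => ?_⟩
    obtain ⟨r, hr⟩ := (Submodule.mem_span_range_iff_exists_fun L).1 (hb.ge (Submodule.mem_top (x := c)))
    choose s hs using fun j => RingHom.mem_fieldRange.1 (r j).2
    refine ⟨s, hr.symm.trans (Finset.sum_congr rfl fun j _ => ?_)⟩
    rw [← frobenius_def, hs j]
    rfl
  choose r hr using hb
  let low : (Fin n → Fin p) → (Fin n →₀ ℕ) := fun a => Finsupp.equivFunOnFinite.symm fun i => (a i : ℕ)
  let g : (Fin n → Fin p) → Fin d → MvPowerSeries (Fin n) k := fun a j m => r (coeff (low a + p • m) f) j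
  have hf : f = ∑ a, ∑ j, C (b j) * (∏ i, (X i) ^ (a i : ℕ)) * g a j ^ p := by
    refine MvPowerSeries.ext fun N => ?_
    obtain ⟨a', m, rfl⟩ : ∃ (a' : Fin n → Fin p) (m : Fin n →₀ ℕ), low a' + p • m = N :=
      ⟨fun i => ⟨N i % p, Nat.mod_lt _ hp.pos⟩, Finsupp.equivFunOnFinite.symm fun i => N i / p,
        Finsupp.ext fun i => by simp [low, Nat.mod_add_div]⟩
    rw [map_sum]
    rw [Finset.sum_eq_single a']
    · rw [map_sum]
      refine (hr (coeff (low a' + p • m) f)).trans (Finset.sum_congr rfl fun j _ => ?_)
      rw [mul_assoc, coeff_C_mul, prod_X_pow, ← map_frobenius_expand p hp.ne_zero, coeff_monomial_mul,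
        if_pos le_self_add, add_tsub_cancel_left, one_mul, coeff_map, coeff_expand_smul, frobenius_def, mul_comm]
      rfl
    · intro a _ ha
      rw [map_sum]
      refine Finset.sum_eq_zero fun j _ => ?_
      obtain ⟨i, hi⟩ : ∃ i, a i ≠ a' i := Function.ne_iff.mp ha
      rw [mul_assoc, coeff_C_mul, prod_X_pow, ← map_frobenius_expand p hp.ne_zero, coeff_monomial_mul]
      split_ifs with h1
      · rw [coeff_map, coeff_expand_of_not_dvd p hp.ne_zero _ (i := i), map_zero, mul_zero, mul_zero]
        intro hdvd
        refine hi (Fin.ext ?_)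
        have h3 : (a i : ℕ) ≤ (a' i : ℕ) + p * m i := by simpa [low] using h1 i
        obtain ⟨t, ht⟩ := hdvd
        have ht' : (a' i : ℕ) + p * m i - (a i : ℕ) = p * t := by simpa [low] using ht
        have h4 : (a' i : ℕ) + p * m i = (a i : ℕ) + p * t := by omega
        have h5 := congrArg (· % p) h4
        simpa [Nat.mod_eq_of_lt (a i).2, Nat.mod_eq_of_lt (a' i).2] using h5.symm
      · rw [mul_zero]
    · exact fun h => absurd (Finset.mem_univ _) h
  rw [hf]
  exact sum_mem fun a _ => sum_mem fun j _ => AddSubmonoid.subset_closure ⟨b j, a, g a j, rfl⟩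

theorem mem_closure_pow (hk : (frobenius k p).Finite) (e : ℕ) : ∀ f : MvPowerSeries (Fin n) k,
    f ∈ AddSubmonoid.closure (Pieces k n (p ^ e)) := by
  haveI : ExpChar (MvPowerSeries (Fin n) k) p :=
    expChar_of_injective_ringHom (f := (C : k →+* MvPowerSeries (Fin n) k)) (fun a b h => by
      simpa using congrArg constantCoeff h) p
  induction e with
  | zero =>
    intro f
    exact AddSubmonoid.subset_closure ⟨1, fun _ => ⟨0, by simp⟩, f, by simp⟩
  | succ e ih =>
    intro f
    induction ih f using AddSubmonoid.closure_induction with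
    | mem f hf =>
      obtain ⟨c, a, g, rfl⟩ := hf
      induction mem_closure_base p hk g using AddSubmonoid.closure_induction with
      | mem g hg =>
        obtain ⟨c', a', h, rfl⟩ := hg
        refine AddSubmonoid.subset_closure ⟨c * c' ^ p ^ e, fun i => ⟨a i + p ^ e * a' i, ?_⟩, h, ?_⟩
        · have h1 := (a i).2
          have h2 : (a' i : ℕ) + 1 ≤ p := (a' i).2
          calc (a i : ℕ) + p ^ e * a' i < p ^ e * (a' i + 1) := by rw [Nat.mul_add, mul_one]; omega
            _ ≤ p ^ (e + 1) := by rw [pow_succ]; exact Nat.mul_le_mul_left _ h2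
        · simp only [map_mul, map_pow, mul_pow, ← Finset.prod_pow, pow_add, ← pow_mul, Finset.prod_mul_distrib,
            pow_succ, mul_comm (p ^ e)]
          ring
      | zero =>
        rw [zero_pow (pow_ne_zero _ (expChar_pos k p).ne'), mul_zero]
        exact zero_mem _
      | add g g' _ _ hg hg' =>
        rw [add_pow_expChar_pow, mul_add]
        exact add_mem hg hg'
    | zero => exact zero_mem _
    | add f f' _ _ hf hf' => exact add_mem hf hf'

end Groth.L06.GenUnram
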