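import Mathlib.FieldTheory.IntermediateField.Adjoin.Basic
import Mathlib.FieldTheory.KummerExtension
import Mathlib.FieldTheory.Relrank
import Mathlib.Algebra.CharP.Lemmas

/-!
Some level of the tower `k L ^ (p ^ e)` needs at most `n` generators over the next one.
-/

set_option autoImplicit false
set_option linter.style.haveILetI false
set_option maxSynthPendingDepth 3

universe u

noncomputable section

namespace Groth.L06.GenUnram

variable (k : Type u) {L : Type u} [Field k] [Field L] [Algebra k L] (p : ℕ)

/-- The field `k L ^ (p ^ e)`. -/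
def tower (e : ℕ) : IntermediateField k L :=
  IntermediateField.adjoin k (Set.range fun x : L => x ^ p ^ e)

theorem pow_mem_tower (e : ℕ) (x : L) : x ^ p ^ e ∈ tower k p e :=
  IntermediateField.subset_adjoin k _ ⟨x, rfl⟩

theorem tower_succ_le (e : ℕ) : tower k (L := L) p (e + 1) ≤ tower k p e :=
  IntermediateField.adjoin_le_iff.2 (by
    rintro _ ⟨x, rfl⟩
    show x ^ p ^ (e + 1) ∈ tower k p e
    rw [pow_succ', pow_mul]
    exact pow_mem_tower k p e (x ^ p))

theorem tower_zero : tower k (L := L) p 0 = ⊤ := by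
  refine eq_top_iff.2 fun x _ => ?_
  simpa using pow_mem_tower k p 0 x

variable {k p}

theorem frob_mem_tower [ExpChar L p] (e : ℕ) {y : L} (hy : y ∈ tower k p e) : y ^ p ∈ tower k p (e + 1) := by
  induction hy using IntermediateField.adjoin_induction with
  | mem x hx =>
    obtain ⟨x, rfl⟩ := hx
    show (x ^ p ^ e) ^ p ∈ _
    rw [← pow_mul, ← pow_succ]
    exact pow_mem_tower k p (e + 1) x
  | algebraMap c => exact pow_mem ((tower k p (e + 1)).algebraMap_mem c) p
  | add x y _ _ hx hy => rw [add_pow_expChar]; exact add_mem hx hy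
  | inv x _ hx => rw [inv_pow]; exact inv_mem hx
  | mul x y _ _ hx hy => rw [mul_pow]; exact mul_mem hx hy

theorem exists_step [ExpChar L p] (hp : p.Prime) (G : IntermediateField k L) [FiniteDimensional G L] {y : L} (hy : y ∉ G)
    (hyp : y ^ p ∈ G) : ∃ G' : IntermediateField k L, G ≤ G' ∧ y ∈ G' ∧
      (∀ G₂ : IntermediateField k L, G ≤ G₂ → y ∈ G₂ → G' ≤ G₂) ∧
      FiniteDimensional G' L ∧ p * Module.finrank G' L ≤ Module.finrank G L := by
  let E : IntermediateField G L := IntermediateField.adjoin G {y}
  have hdeg : Module.finrank G E = p := by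
    rw [IntermediateField.adjoin.finrank (Algebra.IsIntegral.isIntegral y)]
    have hirr : Irreducible (Polynomial.X ^ p - Polynomial.C (⟨y ^ p, hyp⟩ : G)) :=
      X_pow_sub_C_irreducible_of_prime hp fun b hb => hy (by
        have hb' : (b : L) ^ p = y ^ p := congrArg Subtype.val hb
        rw [← frobenius_inj L p hb']
        exact b.2)
    rw [← minpoly.eq_of_irreducible_of_monic hirr (x := y) (by simp) (Polynomial.monic_X_pow_sub_C _ hp.ne_zero),
      Polynomial.natDegree_X_pow_sub_C]
  refine ⟨E.restrictScalars k, fun x hx => ?_, IntermediateField.mem_adjoin_simple_self G y, fun G₂ h1 h2 x hx => ?_,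
    inferInstanceAs (FiniteDimensional E L), ?_⟩
  · rw [IntermediateField.mem_restrictScalars]
    exact E.algebraMap_mem (⟨x, hx⟩ : G)
  · rw [IntermediateField.mem_restrictScalars] at hx
    induction hx using IntermediateField.adjoin_induction with
    | mem x hx => rw [Set.mem_singleton_iff] at hx; exact hx ▸ h2
    | algebraMap c => exact h1 c.2
    | add _ _ _ _ a b => exact add_mem a b
    | inv _ _ a => exact inv_mem a
    | mul _ _ _ _ a b => exact mul_mem a b
  · show p * Module.finrank E L ≤ _
    rw [← hdeg, Module.finrank_mul_finrank]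

theorem exists_few_generators (hp : p.Prime) [ExpChar L p] {n d : ℕ}
    (hbound : ∀ e, FiniteDimensional (tower k (L := L) p e) L ∧
      Module.finrank (tower k (L := L) p e) L ≤ d * (p ^ e) ^ n) :
    ∃ (e : ℕ) (y : Fin n → L), (∀ i, y i ∈ tower k p e) ∧
      ∀ G : IntermediateField k L, tower k p (e + 1) ≤ G → (∀ i, y i ∈ G) → tower k p e ≤ G := by
  by_contra hcon
  push Not at hcon
  have hchain : ∀ (e m : ℕ), m ≤ n + 1 → ∃ G : IntermediateField k L,
      tower k p (e + 1) ≤ G ∧ G ≤ tower k p e ∧ FiniteDimensional G L ∧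
      p ^ m * Module.finrank G L ≤ Module.finrank (tower k (L := L) p (e + 1)) L ∧
      ∃ y : Fin m → L, (∀ i, y i ∈ tower k p e) ∧
        ∀ G₂ : IntermediateField k L, tower k p (e + 1) ≤ G₂ → (∀ i, y i ∈ G₂) → G ≤ G₂ := by
    intro e m
    induction m with
    | zero => exact fun _ => ⟨_, le_rfl, tower_succ_le k p e, (hbound _).1, by simp, Fin.elim0, fun i => i.elim0,
        fun G₂ h _ => h⟩
    | succ m ih =>
      intro hm
      obtain ⟨G, hG1, hG2, hfd, hdeg, y, hy, hgen⟩ := ih (by omega)
      haveI := hfd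
      let y' : Fin n → L := fun i => if h : (i : ℕ) < m then y ⟨i, h⟩ else 0
      obtain ⟨G₂, hG₂, hy₂, hne⟩ := hcon e y' (fun i => by
        simp only [y']
        split_ifs with h
        · exact hy _
        · exact zero_mem _)
      have hGG₂ : G ≤ G₂ := hgen G₂ hG₂ fun i => by
        have := hy₂ ⟨i, by omega⟩
        simpa [y', i.2] using this
      obtain ⟨z, hz, hz₂⟩ := SetLike.not_le_iff_exists.1 hne
      obtain ⟨G', hle, hzG', hmin, hfd', hstep⟩ := exists_step hp G (y := z) (fun h => hz₂ (hGG₂ h))
        (hG1 (frob_mem_tower e hz))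
      refine ⟨G', hG1.trans hle, hmin _ hG2 hz, hfd', ?_, Fin.snoc y z, fun i => ?_, fun G₃ h1 h2 => ?_⟩
      · calc p ^ (m + 1) * Module.finrank G' L = p ^ m * (p * Module.finrank G' L) := by ring
          _ ≤ p ^ m * Module.finrank G L := Nat.mul_le_mul_left _ hstep
          _ ≤ _ := hdeg
      · induction i using Fin.lastCases with
        | last => simpa using hz
        | cast i => simpa using hy i
      · refine hmin G₃ (hgen G₃ h1 fun i => by simpa using h2 i.castSucc) (by simpa using h2 (Fin.last m))
  have hgrow : ∀ e, (p ^ (n + 1)) ^ e ≤ Module.finrank (tower k (L := L) p e) L := by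
    intro e
    induction e with
    | zero =>
      haveI := (hbound 0).1
      simpa using Nat.one_le_iff_ne_zero.2 (Module.finrank_pos (R := tower k (L := L) p 0) (M := L)).ne'
    | succ e ih =>
      obtain ⟨G, -, hG2, hfd, hdeg, -⟩ := hchain e (n + 1) le_rfl
      haveI := hfd
      have h1 : Module.finrank (tower k (L := L) p e) L ≤ Module.finrank G L :=
        Nat.le_of_dvd Module.finrank_pos (IntermediateField.finrank_dvd_of_le_left hG2)
      calc (p ^ (n + 1)) ^ (e + 1) = p ^ (n + 1) * (p ^ (n + 1)) ^ e := by ring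
        _ ≤ p ^ (n + 1) * Module.finrank G L := Nat.mul_le_mul_left _ (ih.trans h1)
        _ ≤ _ := hdeg
  have h1 := (hgrow d).trans (hbound d).2
  rw [← pow_mul, ← pow_mul, Nat.add_mul, one_mul, pow_add, mul_comm n d, mul_comm (p ^ (d * n))] at h1
  exact absurd (Nat.le_of_mul_le_mul_right h1 (pow_pos hp.pos _)) (not_le.2 (Nat.lt_pow_self hp.one_lt))

end Groth.L06.GenUnram
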