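import Groth.Agent.L06.GenUnram.Main

/-!
A purely inseparable extension of the base field makes a complete local domain generically unramified over
power series.
-/

set_option autoImplicit false
set_option linter.style.haveILetI false
set_option maxSynthPendingDepth 3

universe u

open TensorProduct IsLocalRing

noncomputable section

namespace Groth.L06.GenUnram

theorem exists_frac_powAdjoin {k A L : Type u} [Field k] [CommRing A] [IsDomain A] [Algebra k A] [Field L]
    [Algebra A L] [Algebra k L] [IsScalarTower k A L] [IsFractionRing A L] (p e : ℕ) [ExpChar k p] [ExpChar A p]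
    {x : L} (hx : x ∈ tower k p e) :
    ∃ u ∈ powAdjoin k p e A, ∃ v ∈ powAdjoin k p e A, v ≠ 0 ∧ x = algebraMap A L u / algebraMap A L v := by
  induction hx using IntermediateField.adjoin_induction with
  | mem x hx =>
    obtain ⟨x, rfl⟩ := hx
    obtain ⟨a, b, hb, rfl⟩ := IsFractionRing.div_surjective (A := A) x
    exact ⟨a ^ p ^ e, Algebra.subset_adjoin ⟨a, rfl⟩, b ^ p ^ e, Algebra.subset_adjoin ⟨b, rfl⟩,
      pow_ne_zero _ (nonZeroDivisors.ne_zero hb), by rw [map_pow, map_pow, ← div_pow]⟩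
  | algebraMap c =>
    exact ⟨algebraMap k A c, Subalgebra.algebraMap_mem _ _, 1, one_mem _, one_ne_zero, by
      rw [map_one, div_one, ← IsScalarTower.algebraMap_apply]⟩
  | add x y _ _ hx hy =>
    obtain ⟨u, hu, v, hv, hv0, rfl⟩ := hx
    obtain ⟨u', hu', v', hv', hv0', rfl⟩ := hy
    refine ⟨u * v' + v * u', add_mem (mul_mem hu hv') (mul_mem hv hu'), v * v', mul_mem hv hv', mul_ne_zero hv0 hv0', ?_⟩
    rw [map_add, map_mul, map_mul, map_mul, div_add_div _ _ ((map_ne_zero_iff _ (IsFractionRing.injective A L)).2 hv0)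
      ((map_ne_zero_iff _ (IsFractionRing.injective A L)).2 hv0')]
  | inv x _ hx =>
    obtain ⟨u, hu, v, hv, hv0, rfl⟩ := hx
    rcases eq_or_ne u 0 with rfl | hu0
    · exact ⟨0, zero_mem _, v, hv, hv0, by simp⟩
    · exact ⟨v, hv, u, hu, hu0, by rw [inv_div]⟩
  | mul x y _ _ hx hy =>
    obtain ⟨u, hu, v, hv, hv0, rfl⟩ := hx
    obtain ⟨u', hu', v', hv', hv0', rfl⟩ := hy
    exact ⟨u * u', mul_mem hu hu', v * v', mul_mem hv hv', mul_ne_zero hv0 hv0', by
      rw [map_mul, map_mul, div_mul_div_comm]⟩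

theorem exists_generically_unramified (p : ℕ) (k A : Type u) [Field k]
    [ExpChar k p] (hk : (frobenius k p).Finite) [CommRing A] [IsDomain A] [IsNoetherianRing A] [IsLocalRing A]
    [Algebra k A] [IsAdicComplete (IsLocalRing.maximalIdeal A) A]
    [Module.Finite k (IsLocalRing.ResidueField A)] (hA : ¬ IsField A) (n : ℕ) (hn : ringKrullDim A = n) :
    ∃ (k' : Type u) (_ : Field k') (_ : Algebra k k'), Module.Finite k k' ∧ IsPurelyInseparable k k' ∧
      ∃ (_ : IsDomain ((k' ⊗[k] A) ⧸ nilradical (k' ⊗[k] A)))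
        (_ : IsLocalRing ((k' ⊗[k] A) ⧸ nilradical (k' ⊗[k] A)))
        (_ : Algebra (MvPowerSeries (Fin n) k') ((k' ⊗[k] A) ⧸ nilradical (k' ⊗[k] A)))
        (_ : IsScalarTower k' (MvPowerSeries (Fin n) k') ((k' ⊗[k] A) ⧸ nilradical (k' ⊗[k] A))),
        IsLocalHom (algebraMap (MvPowerSeries (Fin n) k') ((k' ⊗[k] A) ⧸ nilradical (k' ⊗[k] A))) ∧
        Function.Injective (algebraMap (MvPowerSeries (Fin n) k') ((k' ⊗[k] A) ⧸ nilradical (k' ⊗[k] A))) ∧
        Module.Finite (MvPowerSeries (Fin n) k') ((k' ⊗[k] A) ⧸ nilradical (k' ⊗[k] A)) ∧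
        Algebra.IsUnramifiedAt (MvPowerSeries (Fin n) k') (⊥ : Ideal ((k' ⊗[k] A) ⧸ nilradical (k' ⊗[k] A))) := by
  haveI : ExpChar A p := expChar_of_injective_algebraMap (algebraMap k A).injective p
  obtain ⟨x, hx⟩ := exists_sop (A := A) hn
  obtain ⟨φ₀, hφ₀X, hφ₀, hφ₀i⟩ := exists_parametrisation (k := k) hn x hx
  suffices h : ∃ (e : ℕ) (j : Red k p e A →+* A) (φ : MvPowerSeries (Fin n) k →ₐ[k] A),
      Function.Injective j ∧ Set.range j = (powAdjoin k p e A : Set A) ∧
      (∀ c, j (algebraMap (Root k p e) _ c) = algebraMap k A (Root.val k p e c)) ∧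
      φ.toRingHom.Finite ∧ Function.Injective φ ∧ (∀ i, φ (MvPowerSeries.X i) ∈ powAdjoin k p e A) ∧
      ∀ (ψ : MvPowerSeries (Fin n) k →+* Red k p e A), (∀ f, j (ψ f) = φ f) →
        ∀ (E : Type u) [Field E] [Algebra (Red k p e A) E] [IsFractionRing (Red k p e A) E]
          (M : Type u) [AddCommGroup M] [Module E M] (D : E →+ M),
          (∀ x y, D (x * y) = x • D y + y • D x) → (∀ f, D (algebraMap _ E (ψ f)) = 0) →
            ∀ a, D (algebraMap (Red k p e A) E a) = 0 by
    obtain ⟨e, j, φ, hj, hrange, hjk, hφ, hinj, hX, hder⟩ := h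
    exact ⟨Root k p e, inferInstance, inferInstance, finite_root k p e hk, isPurelyInseparable_root k p e,
      exists_structure hk j hj hrange hjk φ hφ hinj hX hder⟩
  rcases ‹ExpChar k p› with _ | ⟨hp⟩
  · obtain ⟨j, hj, hrange, hjk⟩ := exists_embedding k 1 0 A
    refine ⟨0, j, φ₀, hj, hrange, hjk, hφ₀, hφ₀i, fun i => Algebra.subset_adjoin ⟨φ₀ (MvPowerSeries.X i), by simp⟩,
      fun ψ hψ E _ _ _ M _ _ D hl hD a => der_zero_charZero j hj φ₀ hφ₀ ψ hψ E M D hl hD a⟩
  haveI : ExpChar k p := ExpChar.prime hp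
  let L := FractionRing A
  haveI : ExpChar L p := expChar_of_injective_algebraMap (IsFractionRing.injective A L) p
  letI : Algebra (MvPowerSeries (Fin n) k) A := φ₀.toRingHom.toAlgebra
  haveI : Module.Finite (MvPowerSeries (Fin n) k) A := hφ₀
  obtain ⟨d, w, hw⟩ := Module.Finite.exists_fin (R := MvPowerSeries (Fin n) k) (M := A)
  have hw' : ∀ a, ∃ f : Fin d → MvPowerSeries (Fin n) k, a = ∑ l, φ₀ (f l) * w l := fun a => by
    obtain ⟨f, hf⟩ := (Submodule.mem_span_range_iff_exists_fun (MvPowerSeries (Fin n) k)).1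
      (hw.ge (Submodule.mem_top (x := a)))
    exact ⟨f, hf.symm⟩
  obtain ⟨e, y, hy, hgen⟩ := exists_few_generators (k := k) (L := L) hp
    (fun e => finite_tower_le (L := L) φ₀ hk w hw' e)
  obtain ⟨j, hj, hrange, hjk⟩ := exists_embedding k p e A
  have hS : ∀ a ∈ powAdjoin k p e A, ∃ a', j a' = a := fun a ha => by
    show a ∈ Set.range j
    rw [hrange]; exact ha
  obtain ⟨a₀, ha₀, ha₀0⟩ : ∃ a₀ ∈ maximalIdeal A, a₀ ≠ 0 := by
    by_contra hall
    push Not at hall
    exact hA ((IsLocalRing.isField_iff_maximalIdeal_eq).2 (eq_bot_iff.2 fun a ha => hall a ha))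
  choose u hu v hv hv0 huv using fun i => exists_frac_powAdjoin (A := A) p e (hy i)
  let y' : Fin n → A := fun i => u i * v i ^ (p - 1) * (a₀ ^ p ^ e) ^ p
  have hy'S : ∀ i, y' i ∈ powAdjoin k p e A := fun i =>
    mul_mem (mul_mem (hu i) (pow_mem (hv i) _)) (pow_mem (show a₀ ^ p ^ e ∈ powAdjoin k p e A from Algebra.subset_adjoin ⟨a₀, rfl⟩) _)
  have hy'm : ∀ i, y' i ∈ maximalIdeal A := fun i =>
    Ideal.mul_mem_left _ _ (Ideal.pow_mem_of_mem _ (Ideal.pow_mem_of_mem _ ha₀ _ (pow_pos hp.pos _)) _ hp.pos)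
  let T : Fin n → A := fun i => (x i ^ p ^ e) ^ p * (1 + y' i)
  have hunit : ∀ i, IsUnit (1 + y' i) := fun i =>
    IsLocalRing.notMem_maximalIdeal.1 fun h => (maximalIdeal.isMaximal A).ne_top
      ((Ideal.eq_top_iff_one _).2 (by simpa using Ideal.sub_mem _ h (hy'm i)))
  have hTm : (Ideal.span (Set.range T)).radical = maximalIdeal A := by
    refine le_antisymm ((Ideal.IsPrime.radical_le_iff inferInstance).2 (Ideal.span_le.2 ?_)) ?_
    · rintro _ ⟨i, rfl⟩
      exact Ideal.mul_mem_right _ _ (Ideal.pow_mem_of_mem _ (Ideal.pow_mem_of_mem _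
        (hx.le (Ideal.le_radical (Ideal.subset_span ⟨i, rfl⟩))) _ (pow_pos hp.pos _)) _ hp.pos)
    · rw [← hx]
      refine Ideal.radical_le_radical_iff.2 (Ideal.span_le.2 ?_)
      rintro _ ⟨i, rfl⟩
      refine ⟨p ^ e * p, ?_⟩
      rw [pow_mul, ← Ideal.mul_unit_mem_iff_mem _ (hunit i)]
      exact Ideal.subset_span ⟨i, rfl⟩
  obtain ⟨φ, hφX, hφ, hφi⟩ := exists_parametrisation (k := k) hn T hTm
  choose wS hwS using fun i => hS (x i ^ p ^ e) (Algebra.subset_adjoin ⟨x i, rfl⟩)
  choose yS hyS using fun i => hS (y' i) (hy'S i)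
  have hT : ∀ i, φ (MvPowerSeries.X i) = j (wS i ^ p * (1 + yS i)) := fun i => by
    rw [hφX, map_mul, map_pow, map_add, map_one, hwS, hyS]
  refine ⟨e, j, φ, hj, hrange, hjk, hφ, hφi, fun i => by
    rw [hφX]; exact mul_mem (pow_mem (show x i ^ p ^ e ∈ powAdjoin k p e A from Algebra.subset_adjoin ⟨x i, rfl⟩) _) (add_mem (one_mem _) (hy'S i)), ?_⟩
  have hgen' : ∀ G : IntermediateField k L, tower k p (e + 1) ≤ G → (∀ i, algebraMap A L (j (yS i)) ∈ G) →
      tower k p e ≤ G := by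
    intro G hG hyG
    refine hgen G hG fun i => ?_
    have hva : algebraMap A L (v i * a₀ ^ p ^ e) ∈ tower k (L := L) p e := by
      rw [map_mul, map_pow]
      refine mul_mem ?_ (pow_mem_tower k p e _)
      have := hv i
      generalize v i = b at this
      induction this using Algebra.adjoin_induction with
      | mem z hz => obtain ⟨z, rfl⟩ := hz; rw [map_pow]; exact pow_mem_tower k p e _
      | algebraMap c => rw [← IsScalarTower.algebraMap_apply]; exact (tower k p e).algebraMap_mem c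
      | add z z' _ _ hz hz' => rw [map_add]; exact add_mem hz hz'
      | mul z z' _ _ hz hz' => rw [map_mul]; exact mul_mem hz hz'
    have hvL : algebraMap A L (v i) ≠ 0 := (map_ne_zero_iff _ (IsFractionRing.injective A L)).2 (hv0 i)
    have haL : algebraMap A L a₀ ≠ 0 := (map_ne_zero_iff _ (IsFractionRing.injective A L)).2 ha₀0
    have heq : y i = algebraMap A L (j (yS i)) / algebraMap A L (v i * a₀ ^ p ^ e) ^ p := by
      rw [hyS, huv i]
      simp only [y', map_mul, map_pow, mul_pow]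
      conv_rhs => rw [← mul_pow_sub_one hp.ne_zero (algebraMap A L (v i))]
      rw [mul_assoc, mul_assoc]; exact (mul_div_mul_right _ _ (mul_ne_zero (pow_ne_zero _ hvL) (pow_ne_zero _ (pow_ne_zero _ haL)))).symm
    rw [heq]
    exact div_mem (hyG i) (hG (frob_mem_tower e hva))
  intro ψ hψ E _ _ _ M _ _ D hl hD a
  refine der_zero_charP (L := L) hp j hj hrange φ wS yS (fun i h0 => ?_) hT hgen' ψ hψ E M D hl hD a
  have h1 := hT i
  rw [h0, zero_pow hp.ne_zero, zero_mul, map_zero] at h1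
  have h2 := hφi (h1.trans (map_zero φ).symm)
  have h3 := congrArg (MvPowerSeries.coeff (Finsupp.single i 1)) h2
  simp at h3

end Groth.L06.GenUnram
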