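import Mathlib.RingTheory.TensorProduct.Basic
import Mathlib.FieldTheory.PurelyInseparable.Basic
import Mathlib.RingTheory.Adjoin.Basic
import Mathlib.RingTheory.Nilpotent.Lemmas
import Mathlib.RingTheory.Finiteness.Basic

/-!
Base change to `k ^ (1 / p ^ e)`, modelled inside the ring itself.
-/

set_option autoImplicit false
set_option linter.style.haveILetI false
set_option maxSynthPendingDepth 3

universe u

open TensorProduct

noncomputable section

namespace Groth.L06.GenUnram

/-- The field `k ^ (1 / p ^ e)`, seen through the `p ^ e`-th power map. -/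
def Root (k : Type u) [Field k] (_p _e : ℕ) : Type u := k

instance (k : Type u) [Field k] (p e : ℕ) : Field (Root k p e) := inferInstanceAs (Field k)

variable (k : Type u) [Field k] (p e : ℕ) [ExpChar k p]

instance : Algebra k (Root k p e) :=
  RingHom.toAlgebra (S := Root k p e) (iterateFrobenius k p e)

/-- The underlying element. -/
def Root.val : Root k p e →+* k := RingHom.id k

theorem val_algebraMap (c : k) : Root.val k p e (algebraMap k (Root k p e) c) = c ^ p ^ e :=
  iterateFrobenius_def p e c

theorem finite_root (hk : (frobenius k p).Finite) : Module.Finite k (Root k p e) := by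
  have h : ∀ e, (iterateFrobenius k p e).Finite := by
    intro e
    induction e with
    | zero => rw [iterateFrobenius_zero]; exact RingHom.Finite.id k
    | succ e ih =>
      rw [show e + 1 = 1 + e by ring, iterateFrobenius_add, iterateFrobenius_one]
      exact hk.comp ih
  exact h e

theorem isPurelyInseparable_root : IsPurelyInseparable k (Root k p e) :=
  (isPurelyInseparable_iff_pow_mem k p).2 fun x =>
    ⟨e, ⟨Root.val k p e x, show iterateFrobenius k p e _ = (_ : k) from iterateFrobenius_def p e _⟩⟩

variable (A : Type u) [CommRing A] [Algebra k A] [ExpChar A p]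

/-- The algebra `k A ^ (p ^ e)`. -/
def powAdjoin : Subalgebra k A := Algebra.adjoin k (Set.range fun x : A => x ^ p ^ e)

/-- The map `c ⊗ a ↦ c a ^ (p ^ e)`. -/
def powMapAdd : Root k p e ⊗[k] A →+ A :=
  TensorProduct.liftAddHom
    (AddMonoidHom.mk' (fun c : Root k p e => AddMonoidHom.mk' (fun a : A => algebraMap k A (Root.val k p e c) * a ^ p ^ e)
      fun a b => by rw [add_pow_expChar_pow, mul_add])
      fun c d => AddMonoidHom.ext fun a => by
        show algebraMap k A (Root.val k p e (c + d)) * a ^ p ^ e = _
        rw [map_add, map_add, add_mul]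
        rfl)
    fun r c a => by
      show algebraMap k A (Root.val k p e (r • c)) * a ^ p ^ e = algebraMap k A (Root.val k p e c) * (r • a) ^ p ^ e
      rw [Algebra.smul_def, Algebra.smul_def, map_mul, map_mul, mul_pow, val_algebraMap, map_pow]
      ring

theorem powMapAdd_tmul (c : Root k p e) (a : A) :
    powMapAdd k p e A (c ⊗ₜ a) = algebraMap k A (Root.val k p e c) * a ^ p ^ e := rfl

/-- The map `c ⊗ a ↦ c a ^ (p ^ e)` as a ring map. -/
def powMap : Root k p e ⊗[k] A →+* A :=
  { powMapAdd k p e A with
    map_one' := by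
      show powMapAdd k p e A ((1 : Root k p e) ⊗ₜ[k] (1 : A)) = 1
      simp [powMapAdd_tmul]
    map_mul' := fun x y => by
      show powMapAdd k p e A (x * y) = powMapAdd k p e A x * powMapAdd k p e A y
      induction x using TensorProduct.induction_on with
      | zero => simp
      | add a b ha hb => simp [add_mul, ha, hb]
      | tmul c a =>
        induction y using TensorProduct.induction_on with
        | zero => simp
        | add a b ha hb => simp [mul_add, ha, hb]
        | tmul d b =>
          rw [Algebra.TensorProduct.tmul_mul_tmul, powMapAdd_tmul, powMapAdd_tmul, powMapAdd_tmul, map_mul, map_mul,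
            mul_pow]
          ring }

theorem powMap_tmul (c : Root k p e) (a : A) :
    powMap k p e A (c ⊗ₜ a) = algebraMap k A (Root.val k p e c) * a ^ p ^ e := rfl

theorem range_powMap : Set.range (powMap k p e A) = (powAdjoin k p e A : Set A) := by
  refine Set.Subset.antisymm ?_ fun x hx => ?_
  · rintro _ ⟨x, rfl⟩
    induction x using TensorProduct.induction_on with
    | zero => rw [map_zero]; exact zero_mem _
    | add a b ha hb => rw [map_add]; exact add_mem ha hb
    | tmul c a => exact mul_mem (Subalgebra.algebraMap_mem _ _) (Algebra.subset_adjoin ⟨a, rfl⟩)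
  · induction hx using Algebra.adjoin_induction with
    | mem x hx => obtain ⟨a, rfl⟩ := hx; exact ⟨(1 : Root k p e) ⊗ₜ a, by simp [powMap_tmul]⟩
    | algebraMap c => exact ⟨(show Root k p e from c) ⊗ₜ 1, by rw [powMap_tmul, one_pow, mul_one]; rfl⟩
    | add x y _ _ hx hy =>
      obtain ⟨a, rfl⟩ := hx
      obtain ⟨b, rfl⟩ := hy
      exact ⟨a + b, map_add _ _ _⟩
    | mul x y _ _ hx hy =>
      obtain ⟨a, rfl⟩ := hx
      obtain ⟨b, rfl⟩ := hy
      exact ⟨a * b, map_mul _ _ _⟩

theorem pow_eq_one_tmul (x : Root k p e ⊗[k] A) [ExpChar (Root k p e ⊗[k] A) p] :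
    x ^ p ^ e = (1 : Root k p e) ⊗ₜ powMap k p e A x := by
  induction x using TensorProduct.induction_on with
  | zero => rw [map_zero, TensorProduct.tmul_zero, zero_pow (pow_ne_zero _ (expChar_pos k p).ne')]
  | add a b ha hb => rw [add_pow_expChar_pow, ha, hb, map_add, TensorProduct.tmul_add]
  | tmul c a =>
    rw [powMap_tmul, Algebra.TensorProduct.tmul_pow, ← Algebra.smul_def, TensorProduct.tmul_smul,
      TensorProduct.smul_tmul', Algebra.smul_def, mul_one]
    congr 1

theorem ker_powMap [IsDomain A] : RingHom.ker (powMap k p e A) = nilradical (Root k p e ⊗[k] A) := by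
  refine le_antisymm (fun x hx => ?_) fun x hx => ((mem_nilradical.1 hx).map (powMap k p e A)).eq_zero
  haveI : ExpChar (Root k p e ⊗[k] A) p := by
    haveI : Nontrivial (Root k p e ⊗[k] A) := (powMap k p e A).domain_nontrivial
    exact expChar_of_injective_algebraMap (algebraMap k (Root k p e ⊗[k] A)).injective p
  exact ⟨p ^ e, by rw [pow_eq_one_tmul, RingHom.mem_ker.1 hx, TensorProduct.tmul_zero]; exact zero_mem _⟩

theorem exists_embedding [IsDomain A] :
    ∃ j : (Root k p e ⊗[k] A) ⧸ nilradical (Root k p e ⊗[k] A) →+* A, Function.Injective j ∧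
      Set.range j = (powAdjoin k p e A : Set A) ∧
      ∀ c : Root k p e, j (algebraMap (Root k p e) _ c) = algebraMap k A (Root.val k p e c) := by
  refine ⟨Ideal.Quotient.lift _ (powMap k p e A) (ker_powMap k p e A).ge,
    RingHom.lift_injective_of_ker_le_ideal _ _ (ker_powMap k p e A).le, ?_, fun c => ?_⟩
  · rw [← range_powMap]
    exact Set.ext fun a => ⟨fun ⟨x, hx⟩ => by
        obtain ⟨x, rfl⟩ := Ideal.Quotient.mk_surjective x
        exact ⟨x, hx⟩,
      fun ⟨x, hx⟩ => ⟨Ideal.Quotient.mk _ x, hx⟩⟩
  · show powMap k p e A (c ⊗ₜ[k] (1 : A)) = _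
    simp [powMap_tmul]

end Groth.L06.GenUnram
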