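import Groth.Agent.L06.GenUnram.Decomp
import Groth.Agent.L06.GenUnram.Complete
import Groth.Agent.L06.GenUnram.Root
import Groth.Agent.L06.GenUnram.Degree
import Mathlib.RingTheory.Unramified.Locus
import Mathlib.RingTheory.Derivation.Basic
import Mathlib.FieldTheory.Minpoly.Basic
import Mathlib.RingTheory.Localization.FractionRing

/-!
Generically unramified parametrisations after a purely inseparable extension of the base field.
-/

set_option autoImplicit false
set_option linter.style.haveILetI false
set_option maxSynthPendingDepth 3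

universe u

open TensorProduct IsLocalRing

noncomputable section

namespace Groth.L06.GenUnram

variable (k : Type u) [Field k] (p e : ℕ) [ExpChar k p] (A : Type u) [CommRing A] [Algebra k A]

/-- The reduced base change. -/
abbrev Red : Type u := (Root k p e ⊗[k] A) ⧸ nilradical (Root k p e ⊗[k] A)

variable {k p e A}

theorem comp_pieces_mem {n : ℕ} (φ : MvPowerSeries (Fin n) k →ₐ[k] A) (hk : (frobenius k p).Finite)
    (P : AddSubmonoid A)
    (h : ∀ (c : k) (a : Fin n → Fin (p ^ e)) (g : MvPowerSeries (Fin n) k),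
      algebraMap k A c * (∏ i, φ (MvPowerSeries.X i) ^ (a i : ℕ)) * φ g ^ p ^ e ∈ P)
    (f : MvPowerSeries (Fin n) k) : φ f ∈ P := by
  induction mem_closure_pow p hk e f using AddSubmonoid.closure_induction with
  | mem f hf =>
    obtain ⟨c, a, g, rfl⟩ := hf
    rw [map_mul, map_mul, map_prod, map_pow φ g, show φ (MvPowerSeries.C c) = algebraMap k A c from φ.commutes c]
    simp only [map_pow]
    exact h c a g
  | zero => rw [map_zero]; exact zero_mem _
  | add f g _ _ hf hg => rw [map_add]; exact add_mem hf hg

/-- A parametrisation with values in `k A ^ q` gives the required structure, provided derivations vanish. -/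
theorem exists_structure [ExpChar A p] [IsDomain A] [IsNoetherianRing A] [IsLocalRing A] {n : ℕ}
    (hk : (frobenius k p).Finite) (j : Red k p e A →+* A) (hj : Function.Injective j)
    (hrange : Set.range j = (powAdjoin k p e A : Set A))
    (hjk : ∀ c, j (algebraMap (Root k p e) _ c) = algebraMap k A (Root.val k p e c))
    (φ : MvPowerSeries (Fin n) k →ₐ[k] A) (hφ : φ.toRingHom.Finite) (hinj : Function.Injective φ)
    (hX : ∀ i, φ (MvPowerSeries.X i) ∈ powAdjoin k p e A)
    (hder : ∀ (ψ : MvPowerSeries (Fin n) k →+* Red k p e A), (∀ f, j (ψ f) = φ f) →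
      ∀ (E : Type u) [Field E] [Algebra (Red k p e A) E] [IsFractionRing (Red k p e A) E]
        (M : Type u) [AddCommGroup M] [Module E M] (D : E →+ M),
        (∀ x y, D (x * y) = x • D y + y • D x) → (∀ f, D (algebraMap _ E (ψ f)) = 0) →
          ∀ a, D (algebraMap (Red k p e A) E a) = 0) :
    ∃ (_ : IsDomain (Red k p e A)) (_ : IsLocalRing (Red k p e A))
      (_ : Algebra (MvPowerSeries (Fin n) (Root k p e)) (Red k p e A))
      (_ : IsScalarTower (Root k p e) (MvPowerSeries (Fin n) (Root k p e)) (Red k p e A)),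
      IsLocalHom (algebraMap (MvPowerSeries (Fin n) (Root k p e)) (Red k p e A)) ∧
      Function.Injective (algebraMap (MvPowerSeries (Fin n) (Root k p e)) (Red k p e A)) ∧
      Module.Finite (MvPowerSeries (Fin n) (Root k p e)) (Red k p e A) ∧
      Algebra.IsUnramifiedAt (MvPowerSeries (Fin n) (Root k p e)) (⊥ : Ideal (Red k p e A)) := by
  have hφS : ∀ f, φ f ∈ Set.range j := by
    intro f
    rw [hrange]
    exact comp_pieces_mem (e := e) φ hk (powAdjoin k p e A).toSubsemiring.toAddSubmonoid (fun c a g =>
      (mul_mem (mul_mem (Subalgebra.algebraMap_mem _ _) (prod_mem fun i _ => pow_mem (hX i) _))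
        (Algebra.subset_adjoin ⟨φ g, rfl⟩) : _ ∈ powAdjoin k p e A)) f
  choose ψ₀ hψ₀ using hφS
  let ψk : MvPowerSeries (Fin n) k →+* Red k p e A :=
    { toFun := ψ₀
      map_one' := hj (by rw [hψ₀, map_one, map_one])
      map_mul' := fun f g => hj (by rw [hψ₀, map_mul j, hψ₀, hψ₀, map_mul])
      map_zero' := hj (by rw [hψ₀, map_zero, map_zero])
      map_add' := fun f g => hj (by rw [hψ₀, map_add j, hψ₀, hψ₀, map_add]) }
  let ψ : MvPowerSeries (Fin n) (Root k p e) →+* Red k p e A := ψk
  letI : Algebra (MvPowerSeries (Fin n) (Root k p e)) (Red k p e A) := ψ.toAlgebra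
  haveI : IsDomain (Red k p e A) := Function.Injective.isDomain j hj
  haveI hloc : IsLocalHom j := ⟨fun s hs => by
    obtain ⟨v, hv⟩ := hs.exists_right_inv
    obtain ⟨t, ht⟩ : v ^ p ^ e ∈ Set.range j := by rw [hrange]; exact Algebra.subset_adjoin ⟨v, rfl⟩
    refine .of_mul_eq_one (s ^ (p ^ e - 1) * t) (hj ?_)
    rw [map_mul, map_mul, map_pow, ht, ← mul_assoc, mul_pow_sub_one (pow_ne_zero _ (expChar_pos k p).ne'), ← mul_pow,
      hv, one_pow, map_one]⟩
  haveI : IsLocalRing (Red k p e A) := j.domain_isLocalRing
  haveI : IsScalarTower (Root k p e) (MvPowerSeries (Fin n) (Root k p e)) (Red k p e A) :=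
    IsScalarTower.of_algebraMap_eq fun c => hj (by
      rw [hjk]
      exact ((hψ₀ _).trans (φ.commutes (Root.val k p e c))).symm)
  letI algA : Algebra (MvPowerSeries (Fin n) (Root k p e)) A :=
    RingHom.toAlgebra (R := MvPowerSeries (Fin n) (Root k p e)) φ.toRingHom
  haveI : Module.Finite (MvPowerSeries (Fin n) (Root k p e)) A := hφ
  haveI hfin : Module.Finite (MvPowerSeries (Fin n) (Root k p e)) (Red k p e A) :=
    Module.Finite.of_injective
      ({ toFun := j
         map_add' := map_add j
         map_smul' := fun f x => by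
          show j (ψ f * x) = φ f * j x
          rw [map_mul]
          exact congrArg (· * j x) (hψ₀ f) } : Red k p e A →ₗ[MvPowerSeries (Fin n) (Root k p e)] A) hj
  have hψinj : Function.Injective ψ := fun f g h =>
    hinj (((hψ₀ f).symm.trans (congrArg j h)).trans (hψ₀ g))
  refine ⟨inferInstance, inferInstance, inferInstance, inferInstance,
    (RingHom.IsIntegral.of_finite hfin).isLocalHom hψinj, hψinj, hfin, ?_⟩
  show Algebra.FormallyUnramified _ (Localization.AtPrime (⊥ : Ideal (Red k p e A)))
  haveI : IsFractionRing (Red k p e A) (Localization.AtPrime (⊥ : Ideal (Red k p e A))) := by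
    simpa [Ideal.primeCompl_bot] using Localization.isLocalization (M := (⊥ : Ideal (Red k p e A)).primeCompl)
  let E := Localization.AtPrime (⊥ : Ideal (Red k p e A))
  letI : Field E := IsFractionRing.toField (Red k p e A)
  rw [Algebra.formallyUnramified_iff]
  have hD := hder ψk hψ₀ E (KaehlerDifferential (MvPowerSeries (Fin n) (Root k p e)) E)
    (KaehlerDifferential.D (MvPowerSeries (Fin n) (Root k p e)) E).toLinearMap.toAddMonoidHom
    (fun x y => (KaehlerDifferential.D (MvPowerSeries (Fin n) (Root k p e)) E).leibniz x y) fun f => by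
      show KaehlerDifferential.D (MvPowerSeries (Fin n) (Root k p e)) E
        (algebraMap (Red k p e A) E
          (algebraMap (MvPowerSeries (Fin n) (Root k p e)) (Red k p e A) (show MvPowerSeries (Fin n) (Root k p e) from f))) = 0
      rw [← IsScalarTower.algebraMap_apply]
      exact Derivation.map_algebraMap _ _
  have hzero : ∀ z : E, KaehlerDifferential.D (MvPowerSeries (Fin n) (Root k p e)) E z = 0 := by
    intro z
    obtain ⟨a, b, -, rfl⟩ := IsFractionRing.div_surjective (A := Red k p e A) z
    have ha : KaehlerDifferential.D (MvPowerSeries (Fin n) (Root k p e)) E (algebraMap (Red k p e A) E a) = 0 := hD a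
    have hb : KaehlerDifferential.D (MvPowerSeries (Fin n) (Root k p e)) E (algebraMap (Red k p e A) E b) = 0 := hD b
    rw [Derivation.leibniz_div, ha, hb, smul_zero, smul_zero, sub_zero, smul_zero]
  refine ⟨fun x y => ?_⟩
  have : ∀ w : KaehlerDifferential (MvPowerSeries (Fin n) (Root k p e)) E, w = 0 := by
    intro w
    have hw : w ∈ Submodule.span E (Set.range (KaehlerDifferential.D (MvPowerSeries (Fin n) (Root k p e)) E)) := by
      rw [KaehlerDifferential.span_range_derivation]; trivial
    induction hw using Submodule.span_induction with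
    | mem x hx => obtain ⟨z, rfl⟩ := hx; exact hzero z
    | zero => rfl
    | add x y _ _ hx hy => rw [hx, hy, add_zero]
    | smul c x _ hx => rw [hx, smul_zero]
  rw [this x, this y]

theorem finite_tower_le [IsDomain A] {p n d : ℕ} [ExpChar k p] {L : Type u} [Field L] [Algebra A L]
    [Algebra k L] [IsScalarTower k A L] [IsFractionRing A L] (φ : MvPowerSeries (Fin n) k →ₐ[k] A)
    (hk : (frobenius k p).Finite) (w : Fin d → A)
    (hw : ∀ a, ∃ f : Fin d → MvPowerSeries (Fin n) k, a = ∑ l, φ (f l) * w l) (e : ℕ) :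
    FiniteDimensional (tower k (L := L) p e) L ∧
      Module.finrank (tower k (L := L) p e) L ≤ d * (p ^ e) ^ n := by
  let v : Fin d × (Fin n → Fin (p ^ e)) → L := fun x =>
    algebraMap A L (w x.1 * ∏ i, φ (MvPowerSeries.X i) ^ (x.2 i : ℕ))
  have hspan : Submodule.span (tower k (L := L) p e) (Set.range v) = ⊤ := by
    refine eq_top_iff.2 fun x _ => ?_
    obtain ⟨a, b, hb, rfl⟩ := IsFractionRing.div_surjective (A := A) x
    have hb0 : algebraMap A L b ≠ 0 :=
      (map_ne_zero_iff _ (IsFractionRing.injective A L)).2 (nonZeroDivisors.ne_zero hb)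
    have hA : ∀ a : A, algebraMap A L a ∈ Submodule.span (tower k (L := L) p e) (Set.range v) := by
      intro a
      obtain ⟨f, rfl⟩ := hw a
      rw [map_sum]
      refine sum_mem fun l _ => ?_
      let P : AddSubmonoid A := ((Submodule.span (tower k (L := L) p e) (Set.range v)).toAddSubmonoid).comap
        ((algebraMap A L).toAddMonoidHom.comp (AddMonoidHom.mulRight (w l)))
      refine comp_pieces_mem (e := e) φ hk P (fun c m g => ?_) (f l)
      show algebraMap A L (_ * w l) ∈ Submodule.span (tower k (L := L) p e) (Set.range v)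
      rw [show algebraMap A L (algebraMap k A c * (∏ i, φ (MvPowerSeries.X i) ^ (m i : ℕ)) * φ g ^ p ^ e * w l) =
        (⟨algebraMap k L c * algebraMap A L (φ g) ^ p ^ e,
          mul_mem ((tower k p e).algebraMap_mem c) (pow_mem_tower k p e _)⟩ : tower k (L := L) p e) • v (l, m) by
          show _ = algebraMap k L c * algebraMap A L (φ g) ^ p ^ e * v (l, m)
          simp only [v, map_mul, map_pow, ← IsScalarTower.algebraMap_apply k A L]
          ring]
      exact Submodule.smul_mem _ _ (Submodule.subset_span ⟨_, rfl⟩)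
    have hq : p ^ e ≠ 0 := pow_ne_zero _ (expChar_pos k p).ne'
    rw [show algebraMap A L a / algebraMap A L b =
      (⟨(algebraMap A L b)⁻¹ ^ p ^ e, pow_mem_tower k p e _⟩ : tower k (L := L) p e) •
        algebraMap A L (a * b ^ (p ^ e - 1)) by
        show _ = (algebraMap A L b)⁻¹ ^ p ^ e * algebraMap A L (a * b ^ (p ^ e - 1))
        rw [map_mul, map_pow, inv_pow, div_eq_mul_inv]
        conv_rhs => rw [← mul_pow_sub_one hq (algebraMap A L b)]
        field_simp]
    exact Submodule.smul_mem _ _ (hA _)
  haveI : FiniteDimensional (tower k (L := L) p e) L := ⟨hspan ▸ Submodule.fg_span (Set.finite_range v)⟩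
  refine ⟨inferInstance, ?_⟩
  rw [← finrank_top (tower k (L := L) p e) L, ← hspan]
  exact (finrank_range_le_card v).trans_eq (by simp [Fintype.card_fin])

theorem der_zero_charP [ExpChar A p] [IsDomain A] (hp : p.Prime) {n : ℕ} {L : Type u} [Field L] [Algebra A L]
    [Algebra k L] [IsScalarTower k A L] [IsFractionRing A L]
    (j : Red k p e A →+* A) (hj : Function.Injective j) (hrange : Set.range j = (powAdjoin k p e A : Set A))
    (φ : MvPowerSeries (Fin n) k →ₐ[k] A) (w y : Fin n → Red k p e A) (hw : ∀ i, w i ≠ 0)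
    (hT : ∀ i, φ (MvPowerSeries.X i) = j (w i ^ p * (1 + y i)))
    (hgen : ∀ G : IntermediateField k L, tower k p (e + 1) ≤ G → (∀ i, algebraMap A L (j (y i)) ∈ G) →
      tower k p e ≤ G)
    (ψ : MvPowerSeries (Fin n) k →+* Red k p e A) (hψ : ∀ f, j (ψ f) = φ f)
    (E : Type u) [Field E] [Algebra (Red k p e A) E] [IsFractionRing (Red k p e A) E]
    (M : Type u) [AddCommGroup M] [Module E M] (D : E →+ M) (hl : ∀ x y, D (x * y) = x • D y + y • D x)
    (hD : ∀ f, D (algebraMap _ E (ψ f)) = 0) (a : Red k p e A) : D (algebraMap (Red k p e A) E a) = 0 := by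
  haveI : IsDomain (Red k p e A) := Function.Injective.isDomain j hj
  let ι : E →+* L := IsFractionRing.lift (A := Red k p e A) (g := (algebraMap A L).comp j)
    ((IsFractionRing.injective A L).comp hj)
  have hι : ∀ a, ι (algebraMap (Red k p e A) E a) = algebraMap A L (j a) := fun a =>
    IsFractionRing.lift_algebraMap _ a
  have hD1 : D 1 = 0 := by simpa using hl 1 1
  have hDinv : ∀ x, D x = 0 → D x⁻¹ = 0 := by
    intro x hx
    rcases eq_or_ne x 0 with rfl | h0
    · simp
    · have h := hl x x⁻¹
      rw [mul_inv_cancel₀ h0, hD1, hx, smul_zero, add_zero] at h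
      exact (smul_eq_zero.1 h.symm).resolve_left h0
  let Z : Subfield E :=
    { carrier := {z | D z = 0}
      mul_mem' := fun {x y} (hx : D x = 0) (hy : D y = 0) => by
        show D (x * y) = 0
        rw [hl, hx, hy, smul_zero, smul_zero, add_zero]
      one_mem' := hD1
      add_mem' := fun {x y} (hx : D x = 0) (hy : D y = 0) => by
        show D (x + y) = 0
        rw [map_add, hx, hy, add_zero]
      zero_mem' := map_zero D
      neg_mem' := fun {x} (hx : D x = 0) => by
        show D (-x) = 0
        rw [map_neg, hx, neg_zero]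
      inv_mem' := hDinv }
  have hk0 : ∀ c : k, algebraMap k L c ∈ Z.map ι := fun c =>
    ⟨algebraMap _ E (ψ (MvPowerSeries.C c)), hD _, by
      rw [hι, hψ, show φ (MvPowerSeries.C c) = algebraMap k A c from φ.commutes c, ← IsScalarTower.algebraMap_apply]⟩
  let G : IntermediateField k L := (Z.map ι).toIntermediateField hk0
  haveI : ExpChar L p := expChar_of_injective_algebraMap (IsFractionRing.injective A L) p
  haveI : ExpChar E p := ι.expChar ι.injective p
  haveI : CharP E p := by
    rcases ‹ExpChar E p› with _ | ⟨_⟩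
    · exact absurd hp Nat.not_prime_one
    · infer_instance
  have hpow : ∀ (z : E), D (z ^ p) = 0 := by
    intro z
    have h : ∀ m : ℕ, D (z ^ m) = (m : E) • z ^ (m - 1) • D z := by
      intro m
      induction m with
      | zero => simp [hD1]
      | succ m ih =>
        rcases m with _ | m
        · simp
        rw [pow_succ, hl, ih, Nat.add_sub_cancel, Nat.add_sub_cancel, smul_smul, smul_smul, smul_smul, ← add_smul]
        congr 1
        push_cast
        ring
    rw [h p, CharP.cast_eq_zero, zero_smul]
  have hrangeA : ∀ x : A, ∃ a : Red k p e A, j a = x ^ p ^ e := fun x => by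
    show x ^ p ^ e ∈ Set.range j
    rw [hrange]; exact Algebra.subset_adjoin ⟨x, rfl⟩
  have hG1 : tower k p (e + 1) ≤ G := IntermediateField.adjoin_le_iff.2 (by
    rintro _ ⟨x, rfl⟩
    obtain ⟨a, b, -, rfl⟩ := IsFractionRing.div_surjective (A := A) x
    obtain ⟨a', ha'⟩ := hrangeA a
    obtain ⟨b', hb'⟩ := hrangeA b
    refine ⟨(algebraMap _ E a' / algebraMap _ E b') ^ p, hpow _, ?_⟩
    rw [map_pow, map_div₀, hι, hι, ha', hb', map_pow, map_pow, ← div_pow, ← pow_mul, ← pow_succ])
  have hy : ∀ i, algebraMap A L (j (y i)) ∈ G := fun i => ⟨algebraMap _ E (y i), by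
    show D (algebraMap _ E (y i)) = 0
    have h := hD (MvPowerSeries.X i)
    rw [show ψ (MvPowerSeries.X i) = w i ^ p * (1 + y i) from hj ((hψ _).trans (hT i)), map_mul, map_pow, map_add,
      map_one, hl, hpow, smul_zero, add_zero, map_add, hD1, zero_add] at h
    exact (smul_eq_zero.1 h).resolve_left (pow_ne_zero _ ((map_ne_zero_iff _ (IsFractionRing.injective _ E)).2 (hw i))),
    hι _⟩
  have ha : algebraMap A L (j a) ∈ tower k p e := by
    have : j a ∈ powAdjoin k p e A := by rw [← SetLike.mem_coe, ← hrange]; exact ⟨a, rfl⟩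
    generalize j a = b at this
    induction this using Algebra.adjoin_induction with
    | mem x hx => obtain ⟨x, rfl⟩ := hx; rw [map_pow]; exact pow_mem_tower k p e _
    | algebraMap c => rw [← IsScalarTower.algebraMap_apply]; exact (tower k p e).algebraMap_mem c
    | add x y _ _ hx hy => rw [map_add]; exact add_mem hx hy
    | mul x y _ _ hx hy => rw [map_mul]; exact mul_mem hx hy
  obtain ⟨z, hz, hza⟩ := hgen G hG1 hy ha
  rw [← ι.injective (hza.trans (hι a).symm)]
  exact hz

theorem der_zero_charZero [CharZero k] [IsDomain A] [ExpChar A p] {n : ℕ} (j : Red k p e A →+* A)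
    (hj : Function.Injective j) (φ : MvPowerSeries (Fin n) k →ₐ[k] A) (hfin : φ.toRingHom.Finite)
    (ψ : MvPowerSeries (Fin n) k →+* Red k p e A) (hψ : ∀ f, j (ψ f) = φ f)
    (E : Type u) [Field E] [Algebra (Red k p e A) E] [IsFractionRing (Red k p e A) E]
    (M : Type u) [AddCommGroup M] [Module E M] (D : E →+ M) (hl : ∀ x y, D (x * y) = x • D y + y • D x)
    (hD : ∀ f, D (algebraMap _ E (ψ f)) = 0) (a : Red k p e A) : D (algebraMap (Red k p e A) E a) = 0 := by
  haveI : IsDomain (Red k p e A) := Function.Injective.isDomain j hj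
  letI : Algebra (MvPowerSeries (Fin n) k) A := φ.toRingHom.toAlgebra
  haveI : Module.Finite (MvPowerSeries (Fin n) k) A := hfin
  letI : Algebra (MvPowerSeries (Fin n) k) E := ((algebraMap _ E).comp ψ).toAlgebra
  letI : Module (MvPowerSeries (Fin n) k) M := Module.compHom M ((algebraMap _ E).comp ψ)
  haveI : IsScalarTower (MvPowerSeries (Fin n) k) E M := ⟨fun r x m => mul_smul _ _ _⟩
  let D' : Derivation (MvPowerSeries (Fin n) k) E M :=
    Derivation.mk'
      { toFun := D
        map_add' := map_add D
        map_smul' := fun r x => by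
          show D (algebraMap _ E (ψ r) * x) = algebraMap _ E (ψ r) • D x
          rw [hl, hD, smul_zero, add_zero] }
      hl
  let z := algebraMap (Red k p e A) E a
  let x : A := j a
  have hint : IsIntegral (MvPowerSeries (Fin n) k) x := IsIntegral.of_finite _ _
  let P := minpoly (MvPowerSeries (Fin n) k) x
  have haev : ∀ Q : Polynomial (MvPowerSeries (Fin n) k), Polynomial.aeval x Q = 0 ↔ Polynomial.aeval z Q = 0 := by
    intro Q
    have h1 : Polynomial.aeval x Q = j (Polynomial.eval₂ ψ a Q) := by
      rw [Polynomial.hom_eval₂, Polynomial.aeval_def]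
      congr 1
      exact RingHom.ext fun f => (hψ f).symm
    have h2 : Polynomial.aeval z Q = algebraMap (Red k p e A) E (Polynomial.eval₂ ψ a Q) := by
      rw [Polynomial.hom_eval₂, Polynomial.aeval_def]
      rfl
    rw [h1, h2, map_eq_zero_iff j hj, map_eq_zero_iff _ (IsFractionRing.injective (Red k p e A) E)]
  have h := D'.map_aeval P z
  rw [(haev P).1 (minpoly.aeval _ _), map_zero] at h
  refine (smul_eq_zero.1 h.symm).resolve_left fun h0 => ?_
  have hdeg : 0 < P.natDegree := minpoly.natDegree_pos hint
  let Q := Polynomial.C (MvPowerSeries.C ((P.natDegree : k)⁻¹)) * Polynomial.derivative P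
  have hcoeff : Q.coeff (P.natDegree - 1) = 1 := by
    simp only [Q, Polynomial.coeff_C_mul, Polynomial.coeff_derivative]
    rw [Nat.sub_add_cancel hdeg, show P.coeff P.natDegree = 1 from (minpoly.monic hint).coeff_natDegree, one_mul]
    rw [show ((P.natDegree - 1 : ℕ) : MvPowerSeries (Fin n) k) + 1 = MvPowerSeries.C ((P.natDegree : k)) by
      rw [map_natCast, ← Nat.cast_add_one, Nat.sub_add_cancel hdeg], ← map_mul,
      inv_mul_cancel₀ (Nat.cast_ne_zero.2 hdeg.ne'), map_one]
  have hQdeg : Q.natDegree ≤ P.natDegree - 1 :=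
    (Polynomial.natDegree_C_mul_le _ _).trans (Polynomial.natDegree_derivative_le P)
  have hQm : Q.Monic := Polynomial.monic_of_natDegree_le_of_coeff_eq_one _ hQdeg hcoeff
  have hQ0 : Polynomial.aeval x Q = 0 := by
    refine (haev Q).2 ?_
    rw [map_mul, h0, mul_zero]
  have hmin := Polynomial.natDegree_le_natDegree (minpoly.min (MvPowerSeries (Fin n) k) x hQm hQ0)
  have : P.natDegree ≤ P.natDegree - 1 := hmin.trans hQdeg
  omega

end Groth.L06.GenUnram
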